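import Groth.Agent.CurveVBLib.MaxSub
import Groth.Agent.PushLinLib.HH
import Groth.Agent.DevissLib.KilledImm
import Groth.Agent.SeesawLib.Ranks

/-!
# Semistability of linearized bundles
-/

set_option autoImplicit false
set_option linter.style.haveILetI false
set_option maxHeartbeats 1000000
universe u

open CategoryTheory CategoryTheory.Limits AlgebraicGeometry
open DevissLib CurvLib CurveVBLib

noncomputable section

namespace LinearizedSSLib

variable {X : Scheme.{u}} (σ : X ⟶ X) (hσ : σ ≫ σ = 𝟙 X)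

include hσ in
theorem isIso_invol : IsIso σ := ⟨σ, hσ, hσ⟩

include hσ in
theorem isEquivalence_pullback : (Scheme.Modules.pullback σ).IsEquivalence := by
  let e : Scheme.Modules.pullback σ ⋙ Scheme.Modules.pullback σ ≅ 𝟭 X.Modules :=
    Scheme.Modules.pullbackComp σ σ ≪≫ Scheme.Modules.pullbackCongr hσ ≪≫ Scheme.Modules.pullbackId X
  exact (CategoryTheory.Equivalence.mk (Scheme.Modules.pullback σ) (Scheme.Modules.pullback σ) e.symm e).isEquivalence_functor

theorem finrank_HH_of_iso {k : Type u} [Field k] {X Y : Scheme.{u}} (σ : X ⟶ Y) [IsIso σ] [X.Over (Spec (CommRingCat.of k))]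
    [Y.Over (Spec (CommRingCat.of k))] [QuasiCompact (Y ↘ Spec (CommRingCat.of k))]
    [IsSeparated (Y ↘ Spec (CommRingCat.of k))] (h : σ ≫ (Y ↘ Spec (CommRingCat.of k)) = X ↘ Spec (CommRingCat.of k))
    (F : Y.Modules) [Coh.IsQCoh F] [Coh.IsQCoh ((Scheme.Modules.pullback σ).obj F)] (n : ℕ) :
    Module.finrank k (Coh.HH X ((Scheme.Modules.pullback σ).obj F) n) = Module.finrank k (Coh.HH Y F n) := by
  have hk : ClSub.KilledByIdeal σ.ker F := by
    intro U a ha m
    rw [Scheme.Hom.ker_apply, RingHom.mem_ker] at ha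
    have : a = 0 := (ConcreteCategory.bijective_of_isIso (σ.app U.1)).1 (ha.trans (map_zero _).symm)
    rw [this, zero_smul]
  haveI := DevissLib.isIso_unit_of_killed σ hk
  have e1 := (PushLinLib.euler_push k σ h ((Scheme.Modules.pullback σ).obj F)).1 n
  rw [e1]
  exact (CurvLib.hIso (k := k) (asIso ((Scheme.Modules.pullbackPushforwardAdjunction σ).unit.app F)) n).finrank_eq.symm

variable {k : Type u} [Field k] [X.Over (Spec (CommRingCat.of k))]
  [IsIntegral X] [IsProper (X ↘ Spec (CommRingCat.of k))] [Smooth (X ↘ Spec (CommRingCat.of k))]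
  (hσS : σ ≫ (X ↘ Spec (CommRingCat.of k)) = X ↘ Spec (CommRingCat.of k))

include hσ hσS in
theorem deg_pullback {n : ℕ} {F : X.Modules} (hF : FlatMod.IsFinLocFreeOfRank n F) :
    Curv2.deg k X ((Scheme.Modules.pullback σ).obj F) n = Curv2.deg k X F n := by
  haveI := CurvLib.isNoetherian k (X := X)
  haveI := isIso_invol σ hσ
  haveI : Coh.IsQCoh F := (CurvLib.isCoh_of_locFree hF).1
  haveI : Coh.IsQCoh ((Scheme.Modules.pullback σ).obj F) :=
    (CurvLib.isCoh_of_locFree (SeesawLib.isFinLocFreeOfRank_pullback σ hF)).1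
  change Curv2.euler k X _ - _ = Curv2.euler k X _ - _
  rw [sub_left_inj]
  exact finsum_congr fun p => by
    rw [finrank_HH_of_iso σ hσS F p]

include hσ hσS in
/-- A linearized bundle semistable for invariant submodules is semistable. -/
theorem semistable (hdim : topologicalKrullDim X = 1) {r : ℕ} (hr : 0 < r) {E : X.Modules}
    (hE : FlatMod.IsFinLocFreeOfRank r E) (φ : (Scheme.Modules.pullback σ).obj E ≅ E)
    (h : ∀ (F : X.Modules) (r' : ℕ) (i : F ⟶ E), Mono i → 0 < r' → FlatMod.IsFinLocFreeOfRank r' F →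
      (∃ j : (Scheme.Modules.pullback σ).obj F ⟶ F, j ≫ i = (Scheme.Modules.pullback σ).map i ≫ φ.hom) →
      Curv2.deg k X F r' * (r : ℤ) ≤ Curv2.deg k X E r * (r' : ℤ)) :
    ModFun.IsSlopeSemistable k X E r := by
  haveI := CurvLib.isNoetherian k (X := X)
  haveI := isEquivalence_pullback σ hσ
  obtain ⟨E₁, r₁, i₁, hi₁, hr₁, hE₁, hmax, -, hquot⟩ := exists_destab (k := k) hdim hE hr
  haveI := hi₁
  haveI : Mono ((Scheme.Modules.pullback σ).map i₁) := inferInstance
  have hE₁' := SeesawLib.isFinLocFreeOfRank_pullback σ hE₁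
  have hdeg := deg_pullback σ hσ hσS hE₁
  have h0 := destab_factors (k := k) hdim hE i₁ ((Scheme.Modules.pullback σ).map i₁ ≫ φ.hom) hr₁ hr₁ hE₁ hE₁'
    hmax hquot (fun F r' j hj hr' hF => (hmax F r' j hj hr' hF).trans_eq (by rw [hdeg]))
  let S : ShortComplex X.Modules := ShortComplex.mk i₁ (cokernel.π i₁) (cokernel.condition i₁)
  have hS : S.ShortExact :=
    { exact := ShortComplex.exact_of_g_is_cokernel _ (cokernelIsCokernel i₁)
      mono_f := inferInstanceAs (Mono i₁)
      epi_g := inferInstanceAs (Epi (cokernel.π i₁)) }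
  haveI := hS.mono_f
  have hle := h E₁ r₁ i₁ hi₁ hr₁ hE₁ ⟨hS.exact.lift _ h0, hS.exact.lift_f _ h0⟩
  intro F r' i hi hr' hF
  have h1 := mul_le_mul_of_nonneg_right (hmax F r' i hi hr' hF) (Int.natCast_nonneg r)
  have h2 := mul_le_mul_of_nonneg_right hle (Int.natCast_nonneg r')
  refine le_of_mul_le_mul_right ?_ (show (0 : ℤ) < (r₁ : ℤ) by exact_mod_cast hr₁)
  linarith

end LinearizedSSLib

end
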